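import Cfsg.Agent.Comp.ChevM
import Cfsg.Agent.Dce.Cent2

/-! Relations between root elements of Chevalley groups over prime fields. -/

set_option autoImplicit false

namespace CF.Dce
open CF.Comp Cfsg.Lie

variable {p W n : ℕ} {mul : ℕ → ℕ → ℕ} {one : ℕ} {ok : ℕ → Bool} {E : ℕ → ℕ} {m : ℕ}

/-- the letters are root elements -/
noncomputable def chevAll (p W n c : ℕ) (D : ChevalleyDatum) (E : ℕ → ℕ) (m : ℕ) (rs : List (List ℕ)) : Bool :=
  allFrom (chevAt (tabP p) c D (unpL W n E m) (unpL W n (fun x => E (Nat.succ x)) m) rs) (nat_lit 0) m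

theorem MatM.exists_chev [Fact p.Prime] {D : ChevalleyDatum} (hn : n = D.rank + D.nroots)
    (M : MatM p W n mul one ok) (h : Dce.letOK mul one ok E m = true) {c : ℕ} (hc : (tabP p).mac 1 1 c = 0)
    {rs : List (List ℕ)} (h1 : chevAll p W n c D E m rs = true) :
    ∃ g : ℕ → D.group (ZMod p), ∀ ws w, ev (slp g ws m) w = 1 ↔ ev (slp (M.gl h) ws m) w = 1 := by
  subst hn
  let e := (Matrix.reindexAlgEquiv (ZMod p) (ZMod p) (finSumFinEquiv (m := D.rank) (n := D.nroots))).toMulEquiv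
  let ρ := (Units.map e.toMonoidHom).comp (D.group (ZMod p)).subtype
  have : ∀ i, ∃ x, ρ x = M.gl h i := fun i => by
    by_cases hi : i < m
    · obtain ⟨x, hx⟩ := (tabP_ok (ZMod p) p M.lt).exists_chev (tabP_tot (zero_lt_one.trans M.lt)) hc
        (allFrom_zero.1 h1 i hi)
      refine ⟨x, Units.ext ?_⟩
      rw [MatM.gl, dif_pos hi]
      change e (chevMat D _ x) = toM p W _ _
      rw [hx, unpL, nth_tabl _ _ hi, ← mat_unp]
      ext a b
      simp [e, mat]
    · exact ⟨1, by rw [map_one, M.gl_eq_one h i (not_lt.1 hi)]⟩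
  choose g hg using this
  refine ⟨g, fun ws w => ?_⟩
  rw [← map_eq_one_iff ρ ((Units.map_injective e.injective).comp Subtype.val_injective), map_ev, ← funext hg]
  simp only [map_slp]

/-- an entry of the value of a letter is not zero -/
noncomputable def entNe (W n x i j : ℕ) (E : ℕ → ℕ) : Bool :=
  Nat.ble (nat_lit 1) (Nat.land (Nat.shiftRight (E x) (Nat.mul W (Nat.add (Nat.mul n i) j))) (full W))

theorem MatM.run_ne (M : MatM p W n mul one ok) {g : ℕ → GL (Fin n) (ZMod p)}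
    (h : ∀ x ≤ 2 * m, IsM p W n (E x) (evL g x)) {fl : ℕ} {ws : List (List ℕ)} {x i j : ℕ}
    (hc : Dce.run mul one E m fl ws (entNe W n x i j) = true) (hi : i < n) (hj : j < n) (hij : i ≠ j) :
    evL (slp g ws m) x ≠ 1 := by
  obtain ⟨E', h1, h2⟩ := M.run h hc
  refine (h1 x).ne_one hi hj hij (Nat.one_le_iff_ne_zero.1 ?_)
  rw [fld, ← Nat.and_two_pow_sub_one_eq_mod, ← full_eq]
  exact ble_iff.1 h2

end CF.Dce
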